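import Cfsg.Agent.Lib.Char.Coherent
import Cfsg.Agent.Lib.Perm.CharMult
import Cfsg.Agent.Lib.Char.Linear
import Mathlib.GroupTheory.GroupAction.MultipleTransitivity

/-!
# The characters of degree at most `C(n, 2)` of a four-transitive group

With `f` the number of fixed points and `U` the number of ordered pairs that are swapped, the
functions `f - 1`, `(f ^ 2 - 3 f + U) / 2` and `(f ^ 2 - 3 f + 2 - U) / 2` are irreducible.
-/

set_option autoImplicit false
set_option linter.unusedSectionVars false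
set_option linter.style.haveILetI false
set_option linter.unusedSimpArgs false
set_option linter.unnecessarySeqFocus false

open scoped ComplexConjugate

namespace Cfsg.Agent.Lib.CharSmallPerm

open Cfsg Cfsg.Agent.Lib.Char

universe u v

variable {G : Type u} [Group G] [Fintype G]

/-- A generalised character of norm one and positive degree is irreducible. -/
theorem isIrr_of_generalized {τ : G → ℂ} (h : IsGeneralizedCharacter G τ)
    (h1 : classInner τ τ = 1) {d : ℤ} (hd : τ 1 = d) (hpos : 0 < d) : IsIrrCharacter G τ := by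
  classical
  have hcf := isClassFunction_of_generalized h
  choose z hz using generalized_classInner_int h
  have hz1 : ∑ χ : IrrCharacter G, z χ * z χ = 1 := by
    have := classInner_eq_sum (φ := τ) hcf
    simp only [h1, hz, map_intCast] at this
    exact_mod_cast this.symm
  obtain ⟨χ₀, hχ₀⟩ : ∃ χ, z χ ≠ 0 := by
    by_contra hc
    push Not at hc
    simp [hc] at hz1
  have hle : ∑ χ ∈ Finset.univ.erase χ₀, z χ * z χ ≤ 0 := by
    have hsplit := Finset.add_sum_erase Finset.univ (fun χ => z χ * z χ) (Finset.mem_univ χ₀)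
    have : 0 < z χ₀ * z χ₀ := mul_self_pos.2 hχ₀
    linarith
  have hzero : ∀ χ, χ ≠ χ₀ → z χ = 0 := fun χ hχ => by
    have := (Finset.sum_eq_zero_iff_of_nonneg fun ψ _ => mul_self_nonneg (z ψ)).1
      (le_antisymm hle (Finset.sum_nonneg fun ψ _ => mul_self_nonneg (z ψ))) χ
      (Finset.mem_erase.2 ⟨hχ, Finset.mem_univ _⟩)
    exact mul_self_eq_zero.1 this
  have hsq : z χ₀ * z χ₀ = 1 := by
    rw [← hz1, Finset.sum_eq_single χ₀ (fun b _ hb => by rw [hzero b hb, mul_zero]) (by simp)]
  have hτ : τ = (z χ₀ : ℂ) • (χ₀ : G → ℂ) := by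
    rw [eq_sum_classInner_smul hcf, Finset.sum_eq_single χ₀]
    · rw [hz]
    · intro b _ hb; rw [hz, hzero b hb]; simp
    · simp
  rcases mul_self_eq_one_iff.1 hsq with h' | h'
  · rw [hτ, h', Int.cast_one, one_smul]; exact χ₀.2
  · exfalso
    obtain ⟨k, hk⟩ := exists_natDegree (isCharacter_of_isIrr χ₀.2)
    have h2 := congrFun hτ 1
    rw [hd, h', Pi.smul_apply, hk, smul_eq_mul] at h2
    have h3 : d = -(k : ℤ) := by push_cast at h2; exact_mod_cast (by simpa using h2 : (d : ℂ) = -(k : ℂ))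
    omega

/-- Averaging the solutions of `g • v = τ v` over a transitive set gives one. -/
theorem sum_count {V : Type v} [MulAction G V] [Finite V] [MulAction.IsPretransitive G V] [Nonempty V]
    (τ : V → V) : ∑ g : G, (Nat.card {v : V // g • v = τ v} : ℤ) = Nat.card G := by
  classical
  haveI := Fintype.ofFinite V
  obtain ⟨v₀⟩ := ‹Nonempty V›
  have hstab : ∀ v : V, (Finset.univ.filter fun g : G => g • v = τ v).card *
      Fintype.card V = Fintype.card G := by
    intro v
    have h : ∀ w : V, (Finset.univ.filter fun g : G => g • v = w).card =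
        (Finset.univ.filter fun g : G => g • v = v).card := by
      intro w
      obtain ⟨a, rfl⟩ := MulAction.exists_smul_eq G v w
      refine Finset.card_bij (fun g _ => a⁻¹ * g) ?_ ?_ ?_
      · intro g hg
        simp only [Finset.mem_filter, Finset.mem_univ, true_and] at hg ⊢
        rw [mul_smul, hg, inv_smul_smul]
      · intro g _ g' _ h; exact mul_left_cancel h
      · intro g hg
        refine ⟨a * g, ?_, inv_mul_cancel_left _ _⟩
        simp only [Finset.mem_filter, Finset.mem_univ, true_and] at hg ⊢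
        rw [mul_smul, hg]
    have hsum := Finset.card_eq_sum_card_fiberwise (s := (Finset.univ : Finset G))
      (f := fun g => g • v) (t := (Finset.univ : Finset V)) fun g _ => Finset.mem_univ _
    rw [Finset.sum_congr rfl fun w _ => h w, Finset.sum_const, smul_eq_mul] at hsum
    rw [h (τ v), mul_comm]
    simpa using hsum.symm
  have hV : 0 < Fintype.card V := Fintype.card_pos
  rw [← Nat.cast_sum, Nat.cast_inj]
  refine Nat.eq_of_mul_eq_mul_right hV ?_
  simp only [Nat.card_eq_fintype_card, Fintype.card_subtype, Finset.card_filter]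
  rw [Finset.sum_comm, Finset.sum_mul]
  simp only [← Finset.card_filter]
  rw [Finset.sum_congr rfl fun v _ => hstab v, Finset.sum_const, Finset.card_univ, smul_eq_mul, mul_comm]

variable {α : Type v} [Fintype α] [DecidableEq α] [MulAction G α]

variable (α) in
/-- The number of fixed points. -/
def fp (g : G) : ℕ := (Finset.univ.filter fun a : α => g • a = a).card

variable (α) in
/-- The ordered pairs that are swapped. -/
def swapped (g : G) : Finset (α × α) :=
  Finset.univ.filter fun v => v.1 ≠ v.2 ∧ g • v.1 = v.2 ∧ g • v.2 = v.1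

variable (α) in
/-- The number of swapped ordered pairs. -/
def sw (g : G) : ℕ := (swapped α g).card

theorem mem_swapped {g : G} {v : α × α} :
    v ∈ swapped α g ↔ v.1 ≠ v.2 ∧ g • v.1 = v.2 ∧ g • v.2 = v.1 := by simp [swapped]

/-- Injective tuples fixed by `g`. -/
theorem card_fixed_tuples (g : G) (j : ℕ) :
    Nat.card {v : Fin j ↪ α // g • v = v} = (fp α g).descFactorial j := by
  classical
  let F := {a : α // g • a = a}
  have e : {v : Fin j ↪ α // g • v = v} ≃ (Fin j ↪ F) :=
    { toFun := fun v => ⟨fun i => ⟨v.1 i, congrArg (fun w : Fin j ↪ α => w i) v.2⟩,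
        fun a b h => v.1.injective (congrArg Subtype.val h)⟩
      invFun := fun w => ⟨w.trans (Function.Embedding.subtype _), Function.Embedding.ext fun i => (w i).2⟩
      left_inv := fun v => Subtype.ext (Function.Embedding.ext fun i => rfl)
      right_inv := fun w => Function.Embedding.ext fun i => Subtype.ext rfl }
  rw [Nat.card_congr e,
    Nat.card_eq_fintype_card, Fintype.card_embedding_eq, Fintype.card_fin, Fintype.card_subtype]
  rfl

theorem card_swap_two (g : G) :
    Nat.card {v : Fin 2 ↪ α // g • v = (Equiv.swap (0 : Fin 2) 1).toEmbedding.trans v} = sw α g := by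
  classical
  rw [sw, ← Nat.card_eq_finsetCard]
  refine Nat.card_congr
    { toFun := fun v => ⟨(v.1 0, v.1 1), mem_swapped.2 ⟨v.1.injective.ne (by decide), ?_, ?_⟩⟩
      invFun := fun q => ⟨⟨![q.1.1, q.1.2], ?_⟩, ?_⟩
      left_inv := fun v => Subtype.ext (Function.Embedding.ext fun i => by fin_cases i <;> rfl)
      right_inv := fun q => Subtype.ext (Prod.ext rfl rfl) }
  · have := congrArg (fun w : Fin 2 ↪ α => w 0) v.2
    simpa using this
  · have := congrArg (fun w : Fin 2 ↪ α => w 1) v.2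
    simpa using this
  · obtain ⟨h1, -, -⟩ := mem_swapped.1 q.2
    intro i j h
    fin_cases i <;> fin_cases j <;> first | rfl | (exfalso; simp at h <;> first | exact h1 h | exact h1 h.symm)
  · obtain ⟨-, h2, h3⟩ := mem_swapped.1 q.2
    refine Function.Embedding.ext fun i => ?_
    fin_cases i <;> simp [Equiv.swap_apply_left, Equiv.swap_apply_right, h2, h3]

theorem card_swap_three (g : G) :
    Nat.card {v : Fin 3 ↪ α // g • v = (Equiv.swap (0 : Fin 3) 1).toEmbedding.trans v} =
      sw α g * fp α g := by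
  classical
  rw [sw, fp, ← Finset.card_product, ← Nat.card_eq_finsetCard]
  refine Nat.card_congr
    { toFun := fun v => ⟨((v.1 0, v.1 1), v.1 2), Finset.mem_product.2
        ⟨mem_swapped.2 ⟨v.1.injective.ne (by decide), ?_, ?_⟩, Finset.mem_filter.2 ⟨Finset.mem_univ _, ?_⟩⟩⟩
      invFun := fun q => ⟨⟨![q.1.1.1, q.1.1.2, q.1.2], ?_⟩, ?_⟩
      left_inv := fun v => Subtype.ext (Function.Embedding.ext fun i => by fin_cases i <;> rfl)
      right_inv := fun q => Subtype.ext (Prod.ext (Prod.ext rfl rfl) rfl) }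
  · have := congrArg (fun w : Fin 3 ↪ α => w 0) v.2
    simpa using this
  · have := congrArg (fun w : Fin 3 ↪ α => w 1) v.2
    simpa using this
  · have := congrArg (fun w : Fin 3 ↪ α => w 2) v.2
    simpa [Equiv.swap_apply_of_ne_of_ne] using this
  · obtain ⟨hs, hf⟩ := Finset.mem_product.1 q.2
    obtain ⟨h1, h2, h3⟩ := mem_swapped.1 hs
    have hf' := (Finset.mem_filter.1 hf).2
    have h4 : q.1.1.1 ≠ q.1.2 := fun h => h1 (by rw [← h2, h, hf'])
    have h5 : q.1.1.2 ≠ q.1.2 := fun h => h1 (by rw [← h3, h, hf'])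
    intro i j h
    fin_cases i <;> fin_cases j <;>
      first
      | rfl
      | (exfalso; simp at h <;> first
          | exact h1 h | exact h1 h.symm | exact h4 h | exact h4 h.symm | exact h5 h | exact h5 h.symm)
  · obtain ⟨hs, hf⟩ := Finset.mem_product.1 q.2
    obtain ⟨-, h2, h3⟩ := mem_swapped.1 hs
    have hf' := (Finset.mem_filter.1 hf).2
    refine Function.Embedding.ext fun i => ?_
    fin_cases i <;> simp [Equiv.swap_apply_left, Equiv.swap_apply_right, Equiv.swap_apply_of_ne_of_ne, h2, h3, hf']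

theorem card_swap_four (g : G) :
    Nat.card {v : Fin 4 ↪ α // g • v = (Equiv.swap (0 : Fin 4) 1).toEmbedding.trans v} =
      sw α g * (fp α g).descFactorial 2 := by
  classical
  rw [sw, ← Nat.card_eq_finsetCard, ← card_fixed_tuples, ← Nat.card_prod]
  refine Nat.card_congr
    { toFun := fun v => (⟨(v.1 0, v.1 1), mem_swapped.2 ⟨v.1.injective.ne (by decide), ?_, ?_⟩⟩,
        ⟨⟨![v.1 2, v.1 3], ?_⟩, ?_⟩)
      invFun := fun q => ⟨⟨![q.1.1.1, q.1.1.2, q.2.1 0, q.2.1 1], ?_⟩, ?_⟩
      left_inv := fun v => Subtype.ext (Function.Embedding.ext fun i => by fin_cases i <;> rfl)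
      right_inv := fun q => Prod.ext (Subtype.ext (Prod.ext rfl rfl))
        (Subtype.ext (Function.Embedding.ext fun i => by fin_cases i <;> rfl)) }
  · have := congrArg (fun w : Fin 4 ↪ α => w 0) v.2
    simpa using this
  · have := congrArg (fun w : Fin 4 ↪ α => w 1) v.2
    simpa using this
  · intro i j h
    fin_cases i <;> fin_cases j <;>
      first | rfl | (exfalso; simp at h)
  · have h2 := congrArg (fun w : Fin 4 ↪ α => w 2) v.2
    have h3 := congrArg (fun w : Fin 4 ↪ α => w 3) v.2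
    simp [Equiv.swap_apply_of_ne_of_ne] at h2 h3
    refine Function.Embedding.ext fun i => ?_
    fin_cases i
    · exact h2
    · exact h3
  · obtain ⟨h1, h2, h3⟩ := mem_swapped.1 q.1.2
    have e0 := congrArg (fun w : Fin 2 ↪ α => w 0) q.2.2
    have e1 := congrArg (fun w : Fin 2 ↪ α => w 1) q.2.2
    simp only [Function.Embedding.smul_apply] at e0 e1
    have h4 : q.2.1 0 ≠ q.2.1 1 := q.2.1.injective.ne (by decide)
    have h5 : q.1.1.1 ≠ q.2.1 0 := fun h => h1 (by rw [← h2, h, e0])
    have h6 : q.1.1.1 ≠ q.2.1 1 := fun h => h1 (by rw [← h2, h, e1])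
    have h7 : q.1.1.2 ≠ q.2.1 0 := fun h => h1 (by rw [← h3, h, e0])
    have h8 : q.1.1.2 ≠ q.2.1 1 := fun h => h1 (by rw [← h3, h, e1])
    intro i j h
    fin_cases i <;> fin_cases j <;>
      first
      | rfl
      | (exfalso; simp at h <;> first
          | exact h1 h | exact h1 h.symm | exact h4 h | exact h4 h.symm | exact h5 h | exact h5 h.symm
          | exact h6 h | exact h6 h.symm | exact h7 h | exact h7 h.symm | exact h8 h | exact h8 h.symm)
  · obtain ⟨h1, h2, h3⟩ := mem_swapped.1 q.1.2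
    have e0 := congrArg (fun w : Fin 2 ↪ α => w 0) q.2.2
    have e1 := congrArg (fun w : Fin 2 ↪ α => w 1) q.2.2
    simp only [Function.Embedding.smul_apply] at e0 e1
    refine Function.Embedding.ext fun i => ?_
    fin_cases i <;>
      simp [Equiv.swap_apply_left, Equiv.swap_apply_right, Equiv.swap_apply_of_ne_of_ne, h2, h3, e0, e1]

/-- Double swaps. -/
theorem card_swap_pair (g : G) :
    (Nat.card {v : Fin 4 ↪ α // g • v =
        (Equiv.swap (0 : Fin 4) 1 * Equiv.swap 2 3).toEmbedding.trans v} : ℤ) =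
      (sw α g : ℤ) * ((sw α g : ℤ) - 2) := by
  classical
  set S := swapped α g with hS
  set D := (S ×ˢ S).filter fun q => q.2 ≠ q.1 ∧ q.2 ≠ q.1.swap with hD
  have hc : Nat.card {v : Fin 4 ↪ α // g • v =
      (Equiv.swap (0 : Fin 4) 1 * Equiv.swap 2 3).toEmbedding.trans v} = D.card := by
    rw [← Nat.card_eq_finsetCard]
    refine Nat.card_congr
      { toFun := fun v => ⟨((v.1 0, v.1 1), (v.1 2, v.1 3)), Finset.mem_filter.2 ⟨Finset.mem_product.2
          ⟨mem_swapped.2 ⟨v.1.injective.ne (by decide), ?_, ?_⟩,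
            mem_swapped.2 ⟨v.1.injective.ne (by decide), ?_, ?_⟩⟩, ?_, ?_⟩⟩
        invFun := fun q => ⟨⟨![q.1.1.1, q.1.1.2, q.1.2.1, q.1.2.2], ?_⟩, ?_⟩
        left_inv := fun v => Subtype.ext (Function.Embedding.ext fun i => by fin_cases i <;> rfl)
        right_inv := fun q => Subtype.ext (Prod.ext (Prod.ext rfl rfl) (Prod.ext rfl rfl)) }
    · have := congrArg (fun w : Fin 4 ↪ α => w 0) v.2
      simpa [Equiv.swap_apply_of_ne_of_ne] using this
    · have := congrArg (fun w : Fin 4 ↪ α => w 1) v.2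
      simpa [Equiv.swap_apply_of_ne_of_ne] using this
    · have := congrArg (fun w : Fin 4 ↪ α => w 2) v.2
      simpa [Equiv.swap_apply_of_ne_of_ne] using this
    · have := congrArg (fun w : Fin 4 ↪ α => w 3) v.2
      simpa [Equiv.swap_apply_of_ne_of_ne] using this
    · exact fun h => v.1.injective.ne (show (2 : Fin 4) ≠ 0 by decide) (congrArg Prod.fst h)
    · exact fun h => v.1.injective.ne (show (2 : Fin 4) ≠ 1 by decide) (congrArg Prod.fst h)
    · obtain ⟨hp, hn1, hn2⟩ := Finset.mem_filter.1 q.2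
      obtain ⟨hp1, hp2⟩ := Finset.mem_product.1 hp
      obtain ⟨h1, a2, a3⟩ := mem_swapped.1 hp1
      obtain ⟨h4, b2, b3⟩ := mem_swapped.1 hp2
      have h5 : q.1.1.1 ≠ q.1.2.1 := fun h => hn1 (Prod.ext h.symm (by rw [← b2, ← h, a2]))
      have h6 : q.1.1.1 ≠ q.1.2.2 := fun h => hn2 (Prod.ext (by rw [Prod.fst_swap, ← b3, ← h, a2]) h.symm)
      have h7 : q.1.1.2 ≠ q.1.2.1 := fun h => hn2 (Prod.ext h.symm (by rw [Prod.snd_swap, ← b2, ← h, a3]))
      have h8 : q.1.1.2 ≠ q.1.2.2 := fun h => hn1 (Prod.ext (by rw [← b3, ← h, a3]) h.symm)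
      intro i j h
      fin_cases i <;> fin_cases j <;>
        first
        | rfl
        | (exfalso; simp at h <;> first
            | exact h1 h | exact h1 h.symm | exact h4 h | exact h4 h.symm | exact h5 h | exact h5 h.symm
            | exact h6 h | exact h6 h.symm | exact h7 h | exact h7 h.symm | exact h8 h | exact h8 h.symm)
    · obtain ⟨hp, -, -⟩ := Finset.mem_filter.1 q.2
      obtain ⟨hp1, hp2⟩ := Finset.mem_product.1 hp
      obtain ⟨-, a2, a3⟩ := mem_swapped.1 hp1
      obtain ⟨-, b2, b3⟩ := mem_swapped.1 hp2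
      refine Function.Embedding.ext fun i => ?_
      fin_cases i <;>
        simp [Equiv.swap_apply_left, Equiv.swap_apply_right, Equiv.swap_apply_of_ne_of_ne, a2, a3, b2, b3]
  have hfib : ∀ q ∈ S, ((S.filter fun r => r ≠ q ∧ r ≠ q.swap).card : ℤ) = (S.card : ℤ) - 2 := by
    intro q hq
    obtain ⟨h1, h2, h3⟩ := mem_swapped.1 hq
    have hqs : q.swap ∈ S := mem_swapped.2 ⟨Ne.symm h1, h3, h2⟩
    have hne : q.swap ≠ q := fun h => h1 (congrArg Prod.fst h).symm
    have e : (S.filter fun r => r ≠ q ∧ r ≠ q.swap) = (S.erase q).erase q.swap := by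
      ext r
      simp only [Finset.mem_filter, Finset.mem_erase]
      tauto
    have h2' := Finset.card_erase_add_one (Finset.mem_erase.2 ⟨hne, hqs⟩)
    have h1' := Finset.card_erase_add_one hq
    rw [e]
    omega
  rw [hc, hD, Finset.card_filter, Finset.sum_product]
  simp only [← Finset.card_filter]
  push_cast
  rw [Finset.sum_congr rfl hfib, Finset.sum_const, nsmul_eq_mul]
  rfl

section Moments

variable (hk : ∀ k ≤ 4, MulAction.IsPretransitive G (Fin k ↪ α)) (h4 : 4 ≤ Fintype.card α)

include hk h4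

theorem sum_tuple {k : ℕ} (hk4 : k ≤ 4) (τ : (Fin k ↪ α) → (Fin k ↪ α)) :
    ∑ g : G, (Nat.card {v : Fin k ↪ α // g • v = τ v} : ℤ) = Nat.card G := by
  haveI := hk k hk4
  haveI : Nonempty (Fin k ↪ α) :=
    Function.Embedding.nonempty_of_card_le (by rw [Fintype.card_fin]; omega)
  exact sum_count τ

theorem sum_fixed {k : ℕ} (hk4 : k ≤ 4) :
    ∑ g : G, ((fp α g).descFactorial k : ℤ) = Nat.card G := by
  rw [← sum_tuple hk h4 hk4 id]
  exact Finset.sum_congr rfl fun g _ => by rw [← card_fixed_tuples]; rfl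

theorem sum_fp : ∑ g : G, (fp α g : ℤ) = Nat.card G := by
  simpa using sum_fixed hk h4 (k := 1) (by norm_num)

theorem sum_fp_two : ∑ g : G, (fp α g : ℤ) ^ 2 = 2 * Nat.card G := by
  have h := sum_fixed hk h4 (k := 2) (by norm_num)
  have h1 := sum_fp hk h4
  have e : ∀ g : G, ((fp α g).descFactorial 2 : ℤ) = (fp α g : ℤ) ^ 2 - fp α g := fun g => by
    rcases Nat.eq_zero_or_pos (fp α g) with h0 | h0
    · simp [h0]
    · obtain ⟨m, hm⟩ := Nat.exists_eq_add_of_le h0
      rw [hm]
      simp [Nat.descFactorial_succ, add_tsub_cancel_left]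
      ring
  simp only [e, Finset.sum_sub_distrib] at h
  linarith

theorem descFactorial_cast (m k : ℕ) :
    ((m.descFactorial (k + 1) : ℕ) : ℤ) = ((m.descFactorial k : ℕ) : ℤ) * ((m : ℤ) - k) := by
  rcases Nat.lt_or_ge m k with h | h
  · rw [Nat.descFactorial_of_lt (by omega), Nat.descFactorial_of_lt h]; simp
  · rw [Nat.descFactorial_succ, Nat.cast_mul, Nat.cast_sub h]; ring

theorem sum_fp_three : ∑ g : G, (fp α g : ℤ) ^ 3 = 5 * Nat.card G := by
  have h := sum_fixed hk h4 (k := 3) (by norm_num)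
  have h1 := sum_fp hk h4
  have h2 := sum_fp_two hk h4
  simp only [descFactorial_cast hk h4, Nat.descFactorial_zero, Nat.cast_one, Nat.cast_zero,
    Nat.cast_ofNat] at h
  have e : ∀ g : G, (1 : ℤ) * ((fp α g : ℤ) - 0) * ((fp α g : ℤ) - 1) * ((fp α g : ℤ) - 2) =
      (fp α g : ℤ) ^ 3 - 3 * (fp α g : ℤ) ^ 2 + 2 * fp α g := fun g => by ring
  simp only [e, Finset.sum_add_distrib, Finset.sum_sub_distrib, ← Finset.mul_sum] at h
  linarith

theorem sum_fp_four : ∑ g : G, (fp α g : ℤ) ^ 4 = 15 * Nat.card G := by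
  have h := sum_fixed hk h4 (k := 4) le_rfl
  have h1 := sum_fp hk h4
  have h2 := sum_fp_two hk h4
  have h3 := sum_fp_three hk h4
  simp only [descFactorial_cast hk h4, Nat.descFactorial_zero, Nat.cast_one, Nat.cast_zero,
    Nat.cast_ofNat] at h
  have e : ∀ g : G, (1 : ℤ) * ((fp α g : ℤ) - 0) * ((fp α g : ℤ) - 1) * ((fp α g : ℤ) - 2) *
      ((fp α g : ℤ) - 3) = (fp α g : ℤ) ^ 4 - 6 * (fp α g : ℤ) ^ 3 + 11 * (fp α g : ℤ) ^ 2 - 6 * fp α g :=
    fun g => by ring
  simp only [e, Finset.sum_add_distrib, Finset.sum_sub_distrib, ← Finset.mul_sum] at h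
  linarith

theorem sum_sw : ∑ g : G, (sw α g : ℤ) = Nat.card G := by
  rw [← sum_tuple hk h4 (k := 2) (by norm_num) fun v => (Equiv.swap (0 : Fin 2) 1).toEmbedding.trans v]
  exact Finset.sum_congr rfl fun g _ => by rw [card_swap_two]

theorem sum_sw_fp : ∑ g : G, (sw α g : ℤ) * fp α g = Nat.card G := by
  rw [← sum_tuple hk h4 (k := 3) (by norm_num) fun v => (Equiv.swap (0 : Fin 3) 1).toEmbedding.trans v]
  exact Finset.sum_congr rfl fun g _ => by rw [card_swap_three]; push_cast; rfl

theorem sum_sw_fp_two : ∑ g : G, (sw α g : ℤ) * (fp α g : ℤ) ^ 2 = 2 * Nat.card G := by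
  have h := sum_tuple hk h4 (k := 4) le_rfl fun v => (Equiv.swap (0 : Fin 4) 1).toEmbedding.trans v
  simp only [card_swap_four, Nat.cast_mul, descFactorial_cast hk h4, Nat.descFactorial_zero,
    Nat.cast_one, Nat.cast_zero] at h
  have e : ∀ g : G, (sw α g : ℤ) * (1 * ((fp α g : ℤ) - 0) * ((fp α g : ℤ) - 1)) =
      (sw α g : ℤ) * (fp α g : ℤ) ^ 2 - (sw α g : ℤ) * fp α g := fun g => by ring
  simp only [e, Finset.sum_sub_distrib, sum_sw_fp hk h4] at h
  linarith

theorem sum_sw_two : ∑ g : G, (sw α g : ℤ) ^ 2 = 3 * Nat.card G := by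
  have h := sum_tuple hk h4 (k := 4) le_rfl
    fun v => (Equiv.swap (0 : Fin 4) 1 * Equiv.swap 2 3).toEmbedding.trans v
  simp only [card_swap_pair] at h
  have e : ∀ g : G, (sw α g : ℤ) * ((sw α g : ℤ) - 2) = (sw α g : ℤ) ^ 2 - 2 * (sw α g : ℤ) :=
    fun g => by ring
  simp only [e, Finset.sum_sub_distrib, ← Finset.mul_sum, sum_sw hk h4] at h
  linarith

end Moments

/-- The characters of the permutation action. -/
theorem isCharacter_fixed {Ω : Type v} [Fintype Ω] [MulAction G Ω] :
    IsCharacter G (fun g => (Nat.card (MulAction.fixedBy Ω g) : ℂ)) := by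
  rw [← Perm.CharMult.permRep_character]
  exact isCharacter_character _

theorem isCharacter_fp : IsCharacter G (fun g => (fp α g : ℂ)) := by
  convert isCharacter_fixed (G := G) (Ω := α) using 2 with g
  rw [fp, ← Fintype.card_subtype, ← Nat.card_eq_fintype_card]
  rfl

theorem isCharacter_pairs : IsCharacter G (fun g => ((fp α g).descFactorial 2 : ℂ)) := by
  convert isCharacter_fixed (G := G) (Ω := Fin 2 ↪ α) using 2 with g
  rw [← card_fixed_tuples]
  rfl

/-- Half of the sum is the permutation character of the unordered pairs. -/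
theorem isCharacter_unordered :
    IsCharacter G (fun g => (((fp α g).descFactorial 2 : ℂ) + (sw α g : ℂ)) / 2) := by
  classical
  let τ : (Fin 2 ↪ α) → (Fin 2 ↪ α) := fun v => (Equiv.swap (0 : Fin 2) 1).toEmbedding.trans v
  have hττ : ∀ v, τ (τ v) = v := fun v => Function.Embedding.ext fun i => by
    show v (Equiv.swap (0 : Fin 2) 1 (Equiv.swap 0 1 i)) = v i
    rw [Equiv.swap_apply_self]
  have hτne : ∀ v, τ v ≠ v := fun v h => by
    have := v.injective (show v (Equiv.swap (0 : Fin 2) 1 0) = v 0 from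
      congrArg (fun w : Fin 2 ↪ α => w 0) h)
    simp at this
  let S : Setoid (Fin 2 ↪ α) :=
    { r := fun v w => w = v ∨ w = τ v
      iseqv := ⟨fun v => Or.inl rfl, fun {v w} h => by rcases h with rfl | rfl <;> simp [hττ],
        fun {u v w} h h' => by rcases h with rfl | rfl <;> rcases h' with rfl | rfl <;> simp [hττ]⟩ }
  letI : MulAction G (Quotient S) :=
    { smul := fun g q => Quotient.map (fun v => g • v) (fun v w h => by
        rcases h with rfl | rfl
        · exact Or.inl rfl
        · exact Or.inr (Function.Embedding.ext fun i => rfl)) q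
      one_smul := fun q => Quotient.inductionOn q fun v => congrArg (Quotient.mk S) (one_smul G v)
      mul_smul := fun a b q => Quotient.inductionOn q fun v => congrArg (Quotient.mk S) (mul_smul a b v) }
  haveI := Fintype.ofFinite (Quotient S)
  convert isCharacter_fixed (G := G) (Ω := Quotient S) using 2 with g
  set T := Finset.univ.filter fun v : Fin 2 ↪ α => g • v = v ∨ g • v = τ v with hT
  set FQ := Finset.univ.filter fun q : Quotient S => g • q = q with hFQ
  have hmem : ∀ v, g • v = v ∨ g • v = τ v ↔ g • (Quotient.mk S v) = Quotient.mk S v := fun v => by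
    show _ ↔ Quotient.mk S (g • v) = Quotient.mk S v
    rw [eq_comm (a := Quotient.mk S (g • v)), Quotient.eq]
    rfl
  have hmaps : ∀ v ∈ T, Quotient.mk S v ∈ FQ := fun v hv =>
    Finset.mem_filter.2 ⟨Finset.mem_univ _, (hmem v).1 (Finset.mem_filter.1 hv).2⟩
  have hfib : ∀ q ∈ FQ, (T.filter fun v => Quotient.mk S v = q).card = 2 := by
    intro q hq
    induction q using Quotient.inductionOn with
    | h v =>
      have e : (T.filter fun w => Quotient.mk S w = Quotient.mk S v) = {v, τ v} := by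
        ext w
        simp only [Finset.mem_filter, Finset.mem_insert, Finset.mem_singleton]
        constructor
        · rintro ⟨-, h⟩
          exact Quotient.eq.1 h.symm
        · intro h
          have h' : Quotient.mk S w = Quotient.mk S v := (Quotient.sound h).symm
          refine ⟨Finset.mem_filter.2 ⟨Finset.mem_univ _, (hmem w).2 ?_⟩, h'⟩
          rw [h']
          exact (Finset.mem_filter.1 hq).2
      rw [e, Finset.card_pair (hτne v).symm]
  have hcount : T.card = 2 * FQ.card := by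
    rw [Finset.card_eq_sum_card_fiberwise hmaps, Finset.sum_congr rfl hfib, Finset.sum_const,
      smul_eq_mul, mul_comm]
  have hsplit : T.card = (fp α g).descFactorial 2 + sw α g := by
    rw [hT, Finset.filter_or, Finset.card_union_of_disjoint, ← card_fixed_tuples, ← card_swap_two,
      Nat.card_eq_fintype_card, Nat.card_eq_fintype_card, Fintype.card_subtype, Fintype.card_subtype]
    rw [Finset.disjoint_filter]
    exact fun v _ h h' => hτne v (h'.symm.trans h)
  have hFQc : Nat.card (MulAction.fixedBy (Quotient S) g) = FQ.card := by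
    rw [hFQ, ← Fintype.card_subtype, ← Nat.card_eq_fintype_card]
    rfl
  rw [hFQc, ← Nat.cast_add, ← hsplit, hcount, Nat.cast_mul, Nat.cast_two]
  ring

theorem fp_one : fp α (1 : G) = Fintype.card α := by simp [fp]

theorem sw_one : sw α (1 : G) = 0 := by
  rw [sw, Finset.card_eq_zero, Finset.eq_empty_iff_forall_notMem]
  intro v hv
  obtain ⟨h1, h2, -⟩ := mem_swapped.1 hv
  rw [one_smul] at h2
  exact h1 h2

theorem descFactorial_two (m : ℕ) : ((m.descFactorial 2 : ℕ) : ℂ) = (m : ℂ) * ((m : ℂ) - 1) := by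
  rcases Nat.eq_zero_or_pos m with h | h
  · simp [h]
  · obtain ⟨j, rfl⟩ := Nat.exists_eq_add_of_le h
    simp [Nat.descFactorial_succ]
    ring

/-- The three irreducible characters. -/
theorem isIrr_three (hk : ∀ k ≤ 4, MulAction.IsPretransitive G (Fin k ↪ α)) (h4 : 4 ≤ Fintype.card α) :
    IsIrrCharacter G (fun g => (fp α g : ℂ) - 1) ∧
    IsIrrCharacter G (fun g => ((fp α g : ℂ) ^ 2 - 3 * fp α g + sw α g) / 2) ∧
    IsIrrCharacter G (fun g => ((fp α g : ℂ) ^ 2 - 3 * fp α g + 2 - sw α g) / 2) := by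
  have hN : (Nat.card G : ℂ) ≠ 0 := card_ne_zero_complex G
  have hinner : ∀ (X : G → ℤ) (c : ℂ) (m : ℤ), c ≠ 0 → (m : ℂ) = c * c →
      (∑ g : G, X g * X g = m * Nat.card G) →
      classInner (fun g => (X g : ℂ) / c) (fun g => (X g : ℂ) / c) * conj c = c := by
    intro X c m hc hm hX
    have hc' : conj c ≠ 0 := by simpa using hc
    have : ∑ g : G, (X g : ℂ) * (X g : ℂ) = (m : ℂ) * Nat.card G := by exact_mod_cast hX
    simp only [classInner, map_div₀, map_intCast, div_mul_div_comm, ← Finset.sum_div, this, hm]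
    field_simp
  have hone : ∀ (X : G → ℤ), (∑ g : G, X g * X g = 4 * (Nat.card G : ℤ)) →
      classInner (fun g => (X g : ℂ) / 2) (fun g => (X g : ℂ) / 2) = 1 := fun X hX => by
    have := hinner X 2 4 two_ne_zero (by norm_num) hX
    rw [show conj (2 : ℂ) = 2 from map_ofNat _ 2] at this
    exact mul_right_cancel₀ two_ne_zero (this.trans (one_mul 2).symm)
  have s1 := sum_fp hk h4
  have s2 := sum_fp_two hk h4
  have s3 := sum_fp_three hk h4
  have s4 := sum_fp_four hk h4
  have u1 := sum_sw hk h4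
  have u2 := sum_sw_fp hk h4
  have u3 := sum_sw_fp_two hk h4
  have u4 := sum_sw_two hk h4
  have cst : ∑ _g : G, (1 : ℤ) = Nat.card G := by simp
  set n := Fintype.card α
  refine ⟨isIrr_of_generalized ⟨_, _, isCharacter_fp (α := α), isCharacter_one, rfl⟩ ?_
      (d := (n : ℤ) - 1) ?_ (by omega),
    isIrr_of_generalized ⟨_, _, isCharacter_unordered (α := α), isCharacter_fp (α := α), ?_⟩ ?_
      (d := ((n * (n - 3) / 2 : ℕ) : ℤ)) ?_ ?_,
    isIrr_of_generalized ⟨_, _,
      isCharacter_add (isCharacter_pairs (α := α)) isCharacter_one,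
      isCharacter_add (isCharacter_unordered (α := α)) (isCharacter_fp (α := α)), ?_⟩ ?_
      (d := (((n - 1) * (n - 2) / 2 : ℕ) : ℤ)) ?_ ?_⟩
  · have h := hinner (fun g => (fp α g : ℤ) - 1) 1 1 one_ne_zero (by norm_num) (by
      have e : ∀ g : G, ((fp α g : ℤ) - 1) * ((fp α g : ℤ) - 1) = (fp α g : ℤ) ^ 2 - 2 * fp α g + 1 :=
        fun g => by ring
      simp only [e, Finset.sum_add_distrib, Finset.sum_sub_distrib, ← Finset.mul_sum, s1, s2, cst]
      ring)
    simpa using h
  · simp [fp_one, n]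
  · funext g
    simp only [Pi.sub_apply, descFactorial_two]
    ring
  · have e : (fun g : G => ((fp α g : ℂ) ^ 2 - 3 * fp α g + sw α g) / 2) =
        fun g => (((fp α g : ℤ) ^ 2 - 3 * fp α g + sw α g : ℤ) : ℂ) / 2 := by
      funext g; push_cast; ring
    rw [e]
    refine hone _ ?_
    have e2 : ∀ g : G, ((fp α g : ℤ) ^ 2 - 3 * fp α g + sw α g) *
        ((fp α g : ℤ) ^ 2 - 3 * fp α g + sw α g) = (fp α g : ℤ) ^ 4 - 6 * (fp α g : ℤ) ^ 3 +
          9 * (fp α g : ℤ) ^ 2 + 2 * ((sw α g : ℤ) * (fp α g : ℤ) ^ 2) -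
          6 * ((sw α g : ℤ) * fp α g) + (sw α g : ℤ) ^ 2 := fun g => by ring
    simp only [e2, Finset.sum_add_distrib, Finset.sum_sub_distrib, ← Finset.mul_sum, s2, s3, s4, u2, u3, u4]
    ring
  · obtain ⟨m, hm⟩ := Nat.exists_eq_add_of_le (show 3 ≤ n by omega)
    have h2 : 2 ∣ n * (n - 3) := by
      rw [hm, Nat.add_sub_cancel_left]
      rcases Nat.even_or_odd m with ⟨j, rfl⟩ | ⟨j, rfl⟩
      · exact Dvd.dvd.mul_left ⟨j, by ring⟩ _
      · exact Dvd.dvd.mul_right ⟨2 + j, by ring⟩ _
    rw [sw_one, fp_one, Int.cast_natCast, Nat.cast_div_charZero h2, Nat.cast_mul,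
      Nat.cast_sub (show 3 ≤ n by omega)]
    simp only [n, Nat.cast_ofNat, Nat.cast_zero]
    ring
  · exact Int.natCast_pos.2 (Nat.div_pos (le_trans (by norm_num) (Nat.mul_le_mul h4 (show 1 ≤ n - 3 by omega))) two_pos)
  · funext g
    simp only [Pi.sub_apply, Pi.add_apply, descFactorial_two]
    ring
  · have e : (fun g : G => ((fp α g : ℂ) ^ 2 - 3 * fp α g + 2 - sw α g) / 2) =
        fun g => (((fp α g : ℤ) ^ 2 - 3 * fp α g + 2 - sw α g : ℤ) : ℂ) / 2 := by
      funext g; push_cast; ring
    rw [e]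
    refine hone _ ?_
    have e2 : ∀ g : G, ((fp α g : ℤ) ^ 2 - 3 * fp α g + 2 - sw α g) *
        ((fp α g : ℤ) ^ 2 - 3 * fp α g + 2 - sw α g) = (fp α g : ℤ) ^ 4 - 6 * (fp α g : ℤ) ^ 3 +
          13 * (fp α g : ℤ) ^ 2 - 12 * fp α g + 4 * 1 - 2 * ((sw α g : ℤ) * (fp α g : ℤ) ^ 2) +
          6 * ((sw α g : ℤ) * fp α g) - 4 * (sw α g : ℤ) + (sw α g : ℤ) ^ 2 := fun g => by ring
    simp only [e2, Finset.sum_add_distrib, Finset.sum_sub_distrib, ← Finset.mul_sum, s1, s2, s3, s4,
      u1, u2, u3, u4, cst]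
    ring
  · obtain ⟨m, hm⟩ := Nat.exists_eq_add_of_le (show 2 ≤ n by omega)
    have h2 : 2 ∣ (n - 1) * (n - 2) := by
      rw [hm, Nat.add_sub_cancel_left, show 2 + m - 1 = m + 1 by omega]
      exact (Nat.even_mul_succ_self m |>.two_dvd).trans (dvd_of_eq (mul_comm _ _))
    rw [sw_one, fp_one, Int.cast_natCast, Nat.cast_div_charZero h2, Nat.cast_mul,
      Nat.cast_sub (show 2 ≤ n by omega), Nat.cast_sub (show 1 ≤ n by omega)]
    simp only [n, Nat.cast_ofNat, Nat.cast_zero, Nat.cast_one]
    ring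
  · exact Int.natCast_pos.2 (Nat.div_pos (le_trans (by norm_num)
      (Nat.mul_le_mul (show 3 ≤ n - 1 by omega) (show 2 ≤ n - 2 by omega))) two_pos)

end Cfsg.Agent.Lib.CharSmallPerm
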